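import Groth.Agent.WDivLib.Global

/-!
# Polynomial charts from open immersions of spectra, and the charts of affine space
-/

set_option autoImplicit false
set_option backward.isDefEq.respectTransparency false
set_option linter.style.haveILetI false

universe u

open CategoryTheory CategoryTheory.Limits AlgebraicGeometry TopologicalSpace Opposite MvPolynomial

noncomputable section

namespace Groth.Agent.WDivLib

variable {X Y : Scheme.{u}} {p : Y ⟶ X} {σ : Type u}

/-- A chart from an open immersion of the spectrum of a polynomial ring. -/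
def Chart.ofOpenImmersion [IsIntegral X] [IsIntegral Y] {U : X.Opens} (hU : IsAffineOpen U) [Nonempty U]
    (k : Spec (CommRingCat.of (MvPolynomial σ Γ(X, U))) ⟶ Y) [IsOpenImmersion k]
    (hk : k ≫ p = Spec.map (CommRingCat.ofHom MvPolynomial.C) ≫ hU.fromSpec) : Chart p σ where
  U := U
  V := k ''ᵁ ⊤
  hU := hU
  hV := (isAffineOpen_top _).image_of_isOpenImmersion k
  hVU := by
    rintro y ⟨z, -, rfl⟩
    show p (k z) ∈ U
    rw [← Scheme.Hom.comp_apply, hk, Scheme.Hom.comp_apply]
    have : hU.fromSpec ((Spec.map (CommRingCat.ofHom MvPolynomial.C)) z) ∈ (hU.fromSpec.opensRange : Set X) :=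
      ⟨_, rfl⟩
    rwa [hU.opensRange_fromSpec] at this
  neU := inferInstance
  neV := by
    obtain ⟨z⟩ : Nonempty (Spec (CommRingCat.of (MvPolynomial σ Γ(X, U)))) := inferInstance
    exact ⟨⟨k z, z, trivial, rfl⟩⟩
  e := ((Scheme.ΓSpecIso (CommRingCat.of (MvPolynomial σ Γ(X, U)))).symm ≪≫ (k.appIso ⊤).symm).commRingCatIsoToRingEquiv
  he := fun a => by
    have hV : k ''ᵁ ⊤ ≤ p ⁻¹ᵁ U := by
      rintro y ⟨z, -, rfl⟩
      show p (k z) ∈ U
      rw [← Scheme.Hom.comp_apply, hk, Scheme.Hom.comp_apply]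
      have : hU.fromSpec ((Spec.map (CommRingCat.ofHom MvPolynomial.C)) z) ∈ (hU.fromSpec.opensRange : Set X) :=
        ⟨_, rfl⟩
      rwa [hU.opensRange_fromSpec] at this
    have key : CommRingCat.ofHom MvPolynomial.C ≫ (Scheme.ΓSpecIso (CommRingCat.of (MvPolynomial σ Γ(X, U)))).inv =
        p.appLE U (k ''ᵁ ⊤) hV ≫ (k.appIso ⊤).hom := by
      rw [Scheme.Hom.appIso_hom', Scheme.Hom.appLE_comp_appLE]
      simp only [hk]
      rw [Scheme.Hom.comp_appLE, hU.fromSpec_app_self, Category.assoc, Scheme.Hom.map_appLE,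
        Scheme.ΓSpecIso_inv_naturality]
      rfl
    have key' : p.appLE U (k ''ᵁ ⊤) hV =
        CommRingCat.ofHom MvPolynomial.C ≫ (Scheme.ΓSpecIso (CommRingCat.of (MvPolynomial σ Γ(X, U)))).inv ≫ (k.appIso ⊤).inv := by
      rw [← Category.assoc, key, Category.assoc, Iso.hom_inv_id, Category.comp_id]
    exact (congr($(congrArg CommRingCat.Hom.hom key') a)).symm

/-- Affine space is covered by polynomial charts. -/
theorem charted_affineSpace [IsIntegral X] [Finite σ] :
    Charted (𝔸(σ; X) ↘ X) σ (∅ : Set 𝔸(σ; X)) where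
  hE y hy := absurd hy id
  exists_chart x := by
    obtain ⟨_, ⟨U, hU, rfl⟩, hxU, -⟩ := X.isBasis_affineOpens.exists_subset_of_mem_open
      (Set.mem_univ x) isOpen_univ
    haveI : Nonempty U := ⟨⟨x, hxU⟩⟩
    haveI : IsOpenImmersion (AffineSpace.map σ hU.fromSpec) :=
      MorphismProperty.of_isPullback (P := @IsOpenImmersion) (AffineSpace.isPullback_map hU.fromSpec).flip
        (inferInstanceAs (IsOpenImmersion hU.fromSpec))
    let k : Spec (CommRingCat.of (MvPolynomial σ Γ(X, U))) ⟶ 𝔸(σ; X) :=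
      (AffineSpace.SpecIso σ Γ(X, U)).inv ≫ AffineSpace.map σ hU.fromSpec
    have hk : k ≫ (𝔸(σ; X) ↘ X) = Spec.map (CommRingCat.ofHom MvPolynomial.C) ≫ hU.fromSpec := by
      simp only [k, Category.assoc, AffineSpace.map_over, AffineSpace.SpecIso_inv_over_assoc]
    refine ⟨Chart.ofOpenImmersion hU k hk, hxU, fun y _ hyU => ⟨fun _ hy => hy.elim, fun _ => ?_⟩⟩
    have hyr : (𝔸(σ; X) ↘ X) y ∈ (hU.fromSpec.opensRange : Set X) := by
      rw [hU.opensRange_fromSpec]
      exact hyU
    obtain ⟨s, hs⟩ := hyr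
    obtain ⟨z, hz1, hz2⟩ := Scheme.Pullback.exists_preimage_pullback (f := 𝔸(σ; X) ↘ X) (g := hU.fromSpec) y s hs.symm
    refine ⟨(AffineSpace.SpecIso σ Γ(X, U)).hom ((AffineSpace.isPullback_map hU.fromSpec).isoPullback.inv z),
      trivial, ?_⟩
    show k ((AffineSpace.SpecIso σ Γ(X, U)).hom ((AffineSpace.isPullback_map hU.fromSpec).isoPullback.inv z)) = y
    rw [← Scheme.Hom.comp_apply, ← Scheme.Hom.comp_apply]
    simp only [k, Iso.hom_inv_id_assoc, IsPullback.isoPullback_inv_fst]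
    exact hz1

end Groth.Agent.WDivLib
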