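import Groth.Agent.WDivLib.Affine
import Groth.Prelude.Def_CohB1

/-!
# The standard chart of projective space over an affine base
-/

set_option autoImplicit false
set_option backward.isDefEq.respectTransparency false
set_option backward.defeqAttrib.useBackward true
set_option linter.style.haveILetI false
set_option maxHeartbeats 2000000

universe u

open CategoryTheory CategoryTheory.Limits AlgebraicGeometry TopologicalSpace Opposite MvPolynomial HomogeneousLocalization

noncomputable section

namespace Groth.Agent.WDivLib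

variable (n : ℕ) (A : Type u) [CommRing A]

/-- The substitution into the standard chart. -/
def chart0Fun : MvPolynomial (ULift.{u} (Fin n)) A →+* Away (CohB1.polyGrading n A) (X 0) :=
  eval₂Hom ((fromZeroRingHom (CohB1.polyGrading n A) (Submonoid.powers (X 0 : MvPolynomial (Fin (n + 1)) A))).comp
      (algebraMap A (CohB1.polyGrading n A 0)))
    fun i => Away.mk (CohB1.polyGrading n A) (isHomogeneous_X A 0) 1 (X i.down.succ)
      (by rw [one_smul]; exact isHomogeneous_X A _)

/-- The coordinates of the standard chart. -/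
def dh : Fin (n + 1) → MvPolynomial (ULift.{u} (Fin n)) A := Fin.cons 1 fun i => X (ULift.up i)

theorem dh_zero : dh n A 0 = 1 := rfl

theorem dh_succ (i : Fin n) : dh n A i.succ = X (ULift.up i) := rfl

theorem val_chart0Fun (b : MvPolynomial (ULift.{u} (Fin n)) A) :
    ∃ k : ℕ, ∃ a : MvPolynomial (Fin (n + 1)) A,
      (chart0Fun n A b).val * algebraMap (MvPolynomial (Fin (n + 1)) A)
          (Localization.Away (X 0 : MvPolynomial (Fin (n + 1)) A)) (X 0) ^ k =
        algebraMap (MvPolynomial (Fin (n + 1)) A) (Localization.Away (X 0 : MvPolynomial (Fin (n + 1)) A)) a ∧ aeval (dh n A) a = b := by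
  induction b using MvPolynomial.induction_on with
  | C a =>
    refine ⟨0, C a, ?_, by simp⟩
    rw [pow_zero, mul_one, chart0Fun, eval₂Hom_C, RingHom.comp_apply]
    exact (val_mk _).trans (Localization.mk_one_eq_algebraMap _)
  | add p q hp hq =>
    obtain ⟨k, a, h1, h2⟩ := hp
    obtain ⟨l, b, h3, h4⟩ := hq
    refine ⟨k + l, a * X 0 ^ l + b * X 0 ^ k, ?_, by simp only [map_add, map_mul, map_pow, aeval_X, dh_zero, one_pow, mul_one, h2, h4]⟩
    rw [map_add, val_add, map_add (algebraMap (MvPolynomial (Fin (n + 1)) A) _), map_mul, map_mul, map_pow, map_pow, ← h1, ← h3, pow_add]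
    ring
  | mul_X p i hp =>
    obtain ⟨k, a, h1, h2⟩ := hp
    refine ⟨k + 1, a * X i.down.succ, ?_, by simp only [map_mul, aeval_X, dh_succ, h2]⟩
    rw [map_mul, val_mul, map_mul (algebraMap (MvPolynomial (Fin (n + 1)) A) _), ← h1, pow_succ]
    have hX : (chart0Fun n A (X i)).val *
        algebraMap (MvPolynomial (Fin (n + 1)) A) (Localization.Away (X 0 : MvPolynomial (Fin (n + 1)) A)) (X 0) =
        algebraMap (MvPolynomial (Fin (n + 1)) A) (Localization.Away (X 0 : MvPolynomial (Fin (n + 1)) A))
          (X i.down.succ) := by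
      simp only [chart0Fun, eval₂Hom_X', Away.val_mk]
      rw [← Localization.mk_one_eq_algebraMap, ← Localization.mk_one_eq_algebraMap, Localization.mk_mul,
        Localization.mk_eq_mk_iff, Localization.r_iff_exists]
      exact ⟨1, by simp [mul_comm]⟩
    rw [← hX]
    ring

theorem chart0Fun_bijective [IsDomain A] : Function.Bijective (chart0Fun n A) := by
  constructor
  · refine (injective_iff_map_eq_zero _).2 fun b hb => ?_
    obtain ⟨k, a, h1, h2⟩ := val_chart0Fun n A b
    rw [hb, val_zero, zero_mul] at h1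
    have ha : a = 0 := IsLocalization.injective (Localization.Away (X 0 : MvPolynomial (Fin (n + 1)) A))
      (powers_le_nonZeroDivisors_of_noZeroDivisors (X_ne_zero 0)) (h1.symm.trans (map_zero _).symm)
    rw [← h2, ha, map_zero]
  · intro z
    obtain ⟨k, a, ha, rfl⟩ := Away.mk_surjective (CohB1.polyGrading n A) (isHomogeneous_X A 0) z
    refine ⟨aeval (dh n A) a, ?_⟩
    refine val_injective _ ?_
    have hcomp : ∀ c : MvPolynomial (Fin (n + 1)) A,
        (chart0Fun n A (aeval (dh n A) c)).val =
          eval₂Hom ((algebraMap (MvPolynomial (Fin (n + 1)) A) (Localization.Away (X 0 : MvPolynomial (Fin (n + 1)) A))).comp C)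
            (fun j => algebraMap (MvPolynomial (Fin (n + 1)) A) (Localization.Away (X 0 : MvPolynomial (Fin (n + 1)) A)) (X j) *
              IsLocalization.Away.invSelf (X 0 : MvPolynomial (Fin (n + 1)) A)) c := by
      intro c
      induction c using MvPolynomial.induction_on with
      | C a =>
        rw [aeval_C, eval₂Hom_C, RingHom.comp_apply, MvPolynomial.algebraMap_eq, chart0Fun, eval₂Hom_C, RingHom.comp_apply]
        exact (val_mk _).trans (Localization.mk_one_eq_algebraMap _)
      | add p q hp hq => rw [map_add, map_add, val_add, hp, hq, map_add]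
      | mul_X p j hp =>
        rw [map_mul, map_mul, val_mul, hp, map_mul, eval₂Hom_X', aeval_X]
        congr 1
        refine Fin.cases ?_ (fun i => ?_) j
        · rw [dh_zero, map_one, val_one]
          exact (IsLocalization.Away.mul_invSelf _).symm
        · rw [dh_succ, chart0Fun, eval₂Hom_X', Away.val_mk]
          refine ((IsLocalization.Away.algebraMap_isUnit (X 0 : MvPolynomial (Fin (n + 1)) A)).mul_left_inj).1 ?_
          rw [mul_assoc, mul_comm (IsLocalization.Away.invSelf _), IsLocalization.Away.mul_invSelf, mul_one,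
            ← Localization.mk_one_eq_algebraMap, ← Localization.mk_one_eq_algebraMap, Localization.mk_mul,
            Localization.mk_eq_mk_iff, Localization.r_iff_exists]
          exact ⟨1, by simp [mul_comm]⟩
    rw [hcomp, Away.val_mk]
    have ha' : a.IsHomogeneous k := by simpa using ha
    have hscale : eval₂Hom ((algebraMap (MvPolynomial (Fin (n + 1)) A)
          (Localization.Away (X 0 : MvPolynomial (Fin (n + 1)) A))).comp C)
        (fun j => algebraMap (MvPolynomial (Fin (n + 1)) A) (Localization.Away (X 0 : MvPolynomial (Fin (n + 1)) A)) (X j) *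
          IsLocalization.Away.invSelf (X 0 : MvPolynomial (Fin (n + 1)) A)) a =
        algebraMap _ _ a * IsLocalization.Away.invSelf (X 0 : MvPolynomial (Fin (n + 1)) A) ^ k := by
      conv_lhs => rw [a.as_sum]
      conv_rhs => rw [a.as_sum]
      rw [map_sum, map_sum, Finset.sum_mul]
      refine Finset.sum_congr rfl fun m hm => ?_
      rw [eval₂Hom_monomial, monomial_eq, map_mul, map_finsuppProd, RingHom.comp_apply, mul_assoc]
      congr 1
      have hdeg : ∑ i ∈ m.support, m i = k := by
        simpa [Finsupp.weight_apply, Finsupp.sum] using ha' (MvPolynomial.mem_support_iff.1 hm)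
      rw [← hdeg, ← Finset.prod_pow_eq_pow_sum, Finsupp.prod, Finsupp.prod, ← Finset.prod_mul_distrib]
      exact Finset.prod_congr rfl fun j _ => by rw [mul_pow, map_pow]
    rw [hscale]
    refine ((IsLocalization.Away.algebraMap_isUnit (X 0 : MvPolynomial (Fin (n + 1)) A)).pow k).mul_left_inj.1 ?_
    rw [mul_assoc, ← mul_pow, mul_comm (IsLocalization.Away.invSelf _), IsLocalization.Away.mul_invSelf, one_pow,
      mul_one, ← map_pow, ← Localization.mk_one_eq_algebraMap, ← Localization.mk_one_eq_algebraMap,
      Localization.mk_mul, Localization.mk_eq_mk_iff, Localization.r_iff_exists]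
    exact ⟨1, by simp [mul_comm]⟩

variable [IsDomain A]

/-- Projective space is charted away from the generic point of the hyperplane at infinity. -/
theorem charted_projSpace [IsIntegral (CohB1.ProjSpace n A)] [IsIntegral (Spec (CommRingCat.of A))]
    (hn : 1 ≤ n) (H : CohB1.ProjSpace n A)
    (hH : H.asHomogeneousIdeal.toIdeal = Ideal.span {(X 0 : MvPolynomial (Fin (n + 1)) A)}) :
    Charted (CohB1.ProjSpace.toSpec n A) (ULift.{u} (Fin n)) ({H} : Set (CohB1.ProjSpace n A)) where
  hE y hy := by
    rw [Set.mem_singleton_iff.1 hy]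
    have hmemX1 : (X 1 : MvPolynomial (Fin (n + 1)) A) ∉ H.asHomogeneousIdeal.toIdeal := by
      rw [hH, Ideal.mem_span_singleton]
      intro h
      have h1 := map_dvd (eval (fun j : Fin (n + 1) => if j = 0 then (0 : A) else 1)) h
      have : (1 : Fin (n + 1)) ≠ 0 := by
        intro e
        have := congrArg Fin.val e
        simp [Fin.val_one', Nat.mod_eq_of_lt (by omega : 1 < n + 1)] at this
      simp [this] at h1
    set q := CohB1.ProjSpace.toSpec n A
    haveI : Nonempty (⊤ : (Spec (CommRingCat.of A)).Opens) := ⟨⟨q H, trivial⟩⟩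
    refine pid_injective (isAffineOpen_top _) (show q H ∈ ⊤ from trivial) (generic_mem _) ?_
    rw [pid_genericPoint]
    refine eq_bot_iff.2 fun c hc => ?_
    rw [Ideal.mem_bot]
    by_contra hc0
    obtain ⟨a, rfl⟩ := (ConcreteCategory.bijective_of_isIso (Scheme.ΓSpecIso (CommRingCat.of A)).inv).2 c
    have ha : a ≠ 0 := fun e => hc0 (by rw [e]; exact map_zero (Scheme.ΓSpecIso (CommRingCat.of A)).inv.hom)
    refine (isUnit_germ_iff (show q H ∈ (⊤ : (Spec (CommRingCat.of A)).Opens) from trivial) _).1 ?_ hc
    refine ((Spec (CommRingCat.of A)).mem_basicOpen_top _ _).1 ?_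
    rw [basicOpen_eq_of_affine]
    let f1 : Spec (CommRingCat.of (Away (CohB1.polyGrading n A) (X 1))) ⟶ CohB1.ProjSpace n A :=
      Proj.awayι (CohB1.polyGrading n A) (X 1) (isHomogeneous_X A 1) one_pos
    have hr : H ∈ f1.opensRange := by
      show H ∈ (Proj.awayι (CohB1.polyGrading n A) (X 1) (isHomogeneous_X A 1) one_pos).opensRange
      rw [Proj.opensRange_awayι, Proj.mem_basicOpen]
      exact hmemX1
    obtain ⟨z, hz⟩ := hr
    have hgdeg : (C a * X 1 : MvPolynomial (Fin (n + 1)) A) ∈ CohB1.polyGrading n A 1 :=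
      (isHomogeneous_X A 1).C_mul a
    have hg : H ∈ Proj.basicOpen (CohB1.polyGrading n A) (C a * X 1) := by
      rw [Proj.mem_basicOpen]
      intro h
      rcases (show H.asHomogeneousIdeal.toIdeal.IsPrime from H.isPrime).mem_or_mem h with h | h
      · rw [hH, Ideal.mem_span_singleton] at h
        have h1 := map_dvd (eval (fun _ : Fin (n + 1) => (0 : A))) h
        simp [ha] at h1
      · exact hmemX1 h
    have hz' : z ∈ f1 ⁻¹ᵁ Proj.basicOpen (CohB1.polyGrading n A) (C a * X 1) := by
      show f1 z ∈ Proj.basicOpen (CohB1.polyGrading n A) (C a * X 1)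
      rw [hz]
      exact hg
    rw [show f1 ⁻¹ᵁ Proj.basicOpen (CohB1.polyGrading n A) (C a * X 1) = _ from
      Proj.awayι_preimage_basicOpen (CohB1.polyGrading n A) (isHomogeneous_X A 1) one_pos hgdeg one_pos] at hz'
    rw [← hz]
    show ((f1 ≫ CohB1.ProjSpace.toSpec n A) z) ∈ PrimeSpectrum.basicOpen a
    simp only [f1, CohB1.ProjSpace.toSpec]
    erw [Proj.awayι_toSpecZero_assoc, ← Spec.map_comp]
    show (fromZeroRingHom (CohB1.polyGrading n A) _).comp (algebraMap A (CohB1.polyGrading n A 0)) a ∉ z.asIdeal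
    convert hz' using 2
    refine val_injective _ ?_
    rw [RingHom.comp_apply, Away.val_mk]
    refine (val_mk _).trans ?_
    rw [Localization.mk_eq_mk_iff, Localization.r_iff_exists]
    exact ⟨1, by simp [mul_comm]⟩
  exists_chart x := by
    set q := CohB1.ProjSpace.toSpec n A
    haveI : Nonempty (⊤ : (Spec (CommRingCat.of A)).Opens) := ⟨⟨x, trivial⟩⟩
    let e : MvPolynomial (ULift.{u} (Fin n)) A ≃+* Away (CohB1.polyGrading n A) (X 0) :=
      RingEquiv.ofBijective (chart0Fun n A) (chart0Fun_bijective n A)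
    let θ : CommRingCat.of (Away (CohB1.polyGrading n A) (X 0)) ≅
        CommRingCat.of (MvPolynomial (ULift.{u} (Fin n)) Γ(Spec (CommRingCat.of A), ⊤)) :=
      (e.symm.trans (MvPolynomial.mapEquiv _
        (Scheme.ΓSpecIso (CommRingCat.of A)).symm.commRingCatIsoToRingEquiv)).toCommRingCatIso
    let f0 : Spec (CommRingCat.of (Away (CohB1.polyGrading n A) (X 0))) ⟶ CohB1.ProjSpace n A :=
      Proj.awayι (CohB1.polyGrading n A) (X 0) (isHomogeneous_X A 0) one_pos
    haveI : IsOpenImmersion f0 :=
      inferInstanceAs (IsOpenImmersion (Proj.awayι (CohB1.polyGrading n A) (X 0) (isHomogeneous_X A 0) one_pos))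
    let k := Spec.map θ.hom ≫ f0
    have hk : k ≫ q = Spec.map (CommRingCat.ofHom MvPolynomial.C) ≫ (isAffineOpen_top (Spec (CommRingCat.of A))).fromSpec := by
      rw [IsAffineOpen.fromSpec_top, Scheme.isoSpec_Spec_inv]
      simp only [k, f0, q, CohB1.ProjSpace.toSpec, Category.assoc]
      erw [Proj.awayι_toSpecZero_assoc]
      rw [← Spec.map_comp, ← Spec.map_comp, ← Spec.map_comp]
      congr 1
      refine CommRingCat.hom_ext (RingHom.ext fun a => ?_)
      show MvPolynomial.mapEquiv _ (Scheme.ΓSpecIso (CommRingCat.of A)).symm.commRingCatIsoToRingEquiv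
        (e.symm (fromZeroRingHom (CohB1.polyGrading n A) _ (algebraMap A (CohB1.polyGrading n A 0) a))) = _
      have h1 : e (C a) = fromZeroRingHom (CohB1.polyGrading n A) _ (algebraMap A (CohB1.polyGrading n A 0) a) := by
        show chart0Fun n A (C a) = _
        rw [chart0Fun, eval₂Hom_C]
        rfl
      rw [← h1, RingEquiv.symm_apply_apply]
      exact MvPolynomial.map_C _ a
    refine ⟨Chart.ofOpenImmersion (isAffineOpen_top _) k hk, trivial, fun y hy1 _ => ?_⟩
    have hV : ∀ y, y ∈ k ''ᵁ ⊤ ↔ (X 0 : MvPolynomial (Fin (n + 1)) A) ∉ y.asHomogeneousIdeal := by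
      intro y
      have h1 : (k ''ᵁ ⊤) = f0.opensRange := by
        rw [Scheme.Hom.image_top_eq_opensRange]
        exact Scheme.Hom.opensRange_comp_of_isIso _ _
      rw [h1]
      show y ∈ (Proj.awayι (CohB1.polyGrading n A) (X 0) (isHomogeneous_X A 0) one_pos).opensRange ↔ _
      rw [Proj.opensRange_awayι, Proj.mem_basicOpen]
    show y ∈ k ''ᵁ ⊤ ↔ _
    rw [hV, Set.mem_singleton_iff]
    have hHmem : (X 0 : MvPolynomial (Fin (n + 1)) A) ∈ H.asHomogeneousIdeal := by
      show X 0 ∈ H.asHomogeneousIdeal.toIdeal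
      rw [hH]
      exact Ideal.mem_span_singleton_self _
    refine ⟨fun h e => h (e ▸ hHmem), fun hne hy0 => hne ?_⟩
    have hspec : H ⤳ y := by
      rw [specializes_iff_forall_open]
      intro U hU hyU
      obtain ⟨_, ⟨g, rfl⟩, hyg, hgU⟩ :=
        (ProjectiveSpectrum.isTopologicalBasis_basic_opens (CohB1.polyGrading n A)).exists_subset_of_mem_open hyU hU
      refine hgU ?_
      show g ∉ H.asHomogeneousIdeal.toIdeal
      intro hg
      refine hyg ?_
      rw [hH, Ideal.mem_span_singleton] at hg
      obtain ⟨c, rfl⟩ := hg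
      exact y.asHomogeneousIdeal.toIdeal.mul_mem_right c hy0
    by_contra hne'
    have hlt : y < H := lt_iff_le_not_ge.2 ⟨hspec, fun h => hne' (Specializes.antisymm h hspec).eq⟩
    have h2 := Order.coheight_add_one_le hlt
    rw [hy1] at h2
    have hH0 : Order.coheight H = 0 := by
      have h3 : Order.coheight H + 1 ≤ 0 + 1 := by simpa using h2
      exact nonpos_iff_eq_zero.1 ((ENat.addLECancellable_of_ne_top ENat.one_ne_top).add_le_add_iff_right.1 h3)
    have hgen : H = genericPoint (CohB1.ProjSpace n A) := by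
      have hle : H ≤ genericPoint (CohB1.ProjSpace n A) :=
        (genericPoint_spec (CohB1.ProjSpace n A)).specializes trivial
      exact (Specializes.antisymm (Order.coheight_eq_zero.1 hH0 hle) hle).eq
    obtain ⟨z⟩ := (Chart.ofOpenImmersion (isAffineOpen_top _) k hk).neV
    have hg : genericPoint (CohB1.ProjSpace n A) ∈ k ''ᵁ ⊤ :=
      ((genericPoint_spec _).mem_open_set_iff (k ''ᵁ ⊤).isOpen).2 ⟨z.1, trivial, z.2⟩
    rw [← hgen, hV] at hg
    exact hg hHmem

end Groth.Agent.WDivLib
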