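import Groth.Agent.WDivLib.Poly

/-!
# Divisor classes of a morphism covered by polynomial charts

`p : Y ⟶ X` is covered by polynomial charts away from a set `E` of points over the generic point. Divisors on `Y`
off `E` are linearly equivalent to pullbacks of divisors on `X`, uniquely up to principal divisors of `X`.
-/

set_option autoImplicit false
set_option backward.isDefEq.respectTransparency false
set_option linter.style.haveILetI false

universe u

open CategoryTheory AlgebraicGeometry TopologicalSpace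

noncomputable section

namespace Groth.Agent.WDivLib

variable {X Y : Scheme.{u}} {p : Y ⟶ X}

/-- `p` is covered by polynomial charts away from `E`, and `E` lies over the generic point. -/
structure Charted [IrreducibleSpace X] (p : Y ⟶ X) (σ : Type u) (E : Set Y) : Prop where
  hE : ∀ y ∈ E, p y = genericPoint X
  exists_chart : ∀ x : X, ∃ c : Chart p σ, x ∈ c.U ∧
    ∀ y, Order.coheight y = 1 → p y ∈ c.U → (y ∈ c.V ↔ y ∉ E)

variable [IsIntegral X] [IsIntegral Y] {σ : Type u} {E : Set Y}

theorem Charted.map_genericPoint (h : Charted p σ E) : p (genericPoint Y) = genericPoint X := by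
  obtain ⟨c, -, -⟩ := h.exists_chart (genericPoint X)
  exact c.map_genericPoint

variable [IsLocallyNoetherian X] [IsLocallyNoetherian Y]

theorem principal (hc : Charted p σ E)
    (hR1 : ∀ x : X, Order.coheight x = 1 → IsDiscreteValuationRing (X.presheaf.stalk x))
    (D : X → ℤ) (hD : ∀ x, Order.coheight x ≠ 1 → D x = 0) {g : Y.functionField} (hg : g ≠ 0)
    (h : ∀ y, y ∉ E → Order.coheight y = 1 → Scheme.ord g y = D (p y)) :
    ∃ f : X.functionField, f ≠ 0 ∧ (∀ x, Order.coheight x = 1 → Scheme.ord f x = D x) ∧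
      ∀ y, p y = genericPoint X → Scheme.ord g y = 0 := by
  obtain ⟨c, -, hall⟩ := hc.exists_chart (genericPoint X)
  obtain ⟨f, hf, rfl⟩ := c.horizontal_const hg (fun y hy hy1 hyη => by
    rw [h y ((hall y hy1 (c.hVU hy)).1 hy) hy1, hyη]
    exact hD _ (by rw [coheight_genericPoint]; exact zero_ne_one))
  refine ⟨f, hf, fun x hx => ?_, fun y hy => c.ord_pfield_horizontal hy hf⟩
  obtain ⟨d, hxd, hd⟩ := hc.exists_chart x
  haveI := hR1 x hx
  obtain ⟨y, hy, hpy, hy1, -, -⟩ := d.vertical_point hxd hx
  subst hpy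
  have hne : p y ≠ genericPoint X := fun e => by rw [e, coheight_genericPoint] at hx; exact zero_ne_one hx
  rw [← h y ((hd y hy1 (d.hVU hy)).1 hy) hy1]
  exact (d.ord_pfield_vertical hy hy1 hne hf).symm

theorem exists_linEquiv [CompactSpace Y] (hc : Charted p σ E)
    (hR1 : ∀ x : X, Order.coheight x = 1 → IsDiscreteValuationRing (X.presheaf.stalk x))
    (D' : Y → ℤ) (hfin : {y | D' y ≠ 0}.Finite) :
    ∃ (D : X → ℤ) (g : Y.functionField), (∀ x, Order.coheight x ≠ 1 → D x = 0) ∧ {x | D x ≠ 0}.Finite ∧ g ≠ 0 ∧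
      ∀ y, y ∉ E → Order.coheight y = 1 → D' y = D (p y) + Scheme.ord g y := by
  classical
  obtain ⟨c, -, hall⟩ := hc.exists_chart (genericPoint X)
  obtain ⟨g, hg, hgo⟩ := c.horizontal_exists D' hfin
  have hex : ∀ x : X, Order.coheight x = 1 → ∃ y, p y = x ∧ Order.coheight y = 1 := by
    intro x hx
    obtain ⟨d, hxd, -⟩ := hc.exists_chart x
    haveI := hR1 x hx
    obtain ⟨y, -, hpy, hy1, -, -⟩ := d.vertical_point hxd hx
    exact ⟨y, hpy, hy1⟩
  choose pt hpt hpt1 using hex
  let D : X → ℤ := fun x => if hx : Order.coheight x = 1 then D' (pt x hx) - Scheme.ord g (pt x hx) else 0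
  have hD0 : ∀ x, Order.coheight x ≠ 1 → D x = 0 := fun x hx => dif_neg hx
  refine ⟨D, g, hD0, ?_, hg, fun y hyE hy1 => ?_⟩
  · refine ((hfin.union (finite_ord_ne_zero g)).image p).subset fun x hx => ?_
    by_cases hx1 : Order.coheight x = 1
    · refine ⟨pt x hx1, ?_, hpt x hx1⟩
      simp only [Set.mem_setOf_eq, Set.mem_union] at hx ⊢
      have e : D x = D' (pt x hx1) - Scheme.ord g (pt x hx1) := dif_pos hx1
      omega
    · exact absurd (hD0 x hx1) hx
  · by_cases hη : p y = genericPoint X
    · have hU : p y ∈ c.U := hη ▸ generic_mem c.U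
      rw [hη, hD0 _ (by rw [coheight_genericPoint]; exact zero_ne_one),
        hgo y ((hall y hy1 hU).2 hyE) hy1 hη, zero_add]
    · obtain ⟨d, hxd, hd⟩ := hc.exists_chart (p y)
      have hyV := (hd y hy1 hxd).2 hyE
      have hx1 := d.coheight_map_of_vertical hyV hy1 hη
      have hU : p (pt (p y) hx1) ∈ d.U := by rw [hpt]; exact hxd
      have hzV : pt (p y) hx1 ∈ d.V := (hd _ (hpt1 _ hx1) hU).2 fun hzE => hη (by
        rw [← hpt (p y) hx1]
        exact hc.hE _ hzE)
      have e := d.vertical_unique hyV hzV hy1 (hpt1 _ hx1) hη (hpt _ hx1)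
      have eD : D (p y) = D' (pt (p y) hx1) - Scheme.ord g (pt (p y) hx1) := dif_pos hx1
      rw [eD, e, sub_add_cancel]

end Groth.Agent.WDivLib
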