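import Mathlib

/-!
# Points of codimension one in affine charts and orders of vanishing

For an affine open `V` of an integral locally Noetherian scheme, the points of `V` are the primes of the
coordinate ring; we record uniformizer criteria and the finiteness of the support of a principal divisor.
-/

set_option autoImplicit false
set_option backward.isDefEq.respectTransparency false
set_option linter.style.haveILetI false

universe u

open CategoryTheory AlgebraicGeometry TopologicalSpace

noncomputable section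

namespace Groth.Agent.WDivLib

variable {X : Scheme.{u}}

/-- The prime of the sections over `V` vanishing at a point of `V`. -/
def pid (V : X.Opens) (y : X) (hy : y ∈ V) : Ideal Γ(X, V) :=
  (IsLocalRing.maximalIdeal (X.presheaf.stalk y)).comap (X.presheaf.germ V y hy).hom

instance (V : X.Opens) (y : X) (hy : y ∈ V) : (pid V y hy).IsPrime := Ideal.IsPrime.comap _

theorem isUnit_germ_iff {V : X.Opens} {y : X} (hy : y ∈ V) (c : Γ(X, V)) :
    IsUnit ((X.presheaf.germ V y hy).hom c) ↔ c ∉ pid V y hy := by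
  simp [pid, IsLocalRing.mem_maximalIdeal]

theorem pid_eq_primeIdealOf {V : X.Opens} (hV : IsAffineOpen V) {y : X} (hy : y ∈ V) :
    pid V y hy = (hV.primeIdealOf ⟨y, hy⟩).asIdeal := by
  letI := (X.presheaf.germ V y hy).hom.toAlgebra
  haveI : IsLocalization.AtPrime (X.presheaf.stalk y) (hV.primeIdealOf ⟨y, hy⟩).asIdeal :=
    hV.isLocalization_stalk ⟨y, hy⟩
  ext c
  have h := IsLocalization.AtPrime.to_map_mem_maximal_iff (X.presheaf.stalk y)
    (hV.primeIdealOf ⟨y, hy⟩).asIdeal c
  exact h

theorem isLocalization_pid {V : X.Opens} (hV : IsAffineOpen V) {y : X} (hy : y ∈ V) :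
    letI := (X.presheaf.germ V y hy).hom.toAlgebra
    IsLocalization.AtPrime (X.presheaf.stalk y) (pid V y hy) := by
  letI := (X.presheaf.germ V y hy).hom.toAlgebra
  haveI : IsLocalization.AtPrime (X.presheaf.stalk y) (hV.primeIdealOf ⟨y, hy⟩).asIdeal :=
    hV.isLocalization_stalk ⟨y, hy⟩
  convert this using 2
  exact pid_eq_primeIdealOf hV hy

theorem pid_injective {V : X.Opens} (hV : IsAffineOpen V) {y z : X} (hy : y ∈ V) (hz : z ∈ V)
    (h : pid V y hy = pid V z hz) : y = z := by
  rw [pid_eq_primeIdealOf hV hy, pid_eq_primeIdealOf hV hz] at h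
  have h2 := congrArg hV.fromSpec (PrimeSpectrum.ext h)
  rwa [hV.fromSpec_primeIdealOf, hV.fromSpec_primeIdealOf] at h2

theorem exists_pid_eq {V : X.Opens} (hV : IsAffineOpen V) (P : Ideal Γ(X, V)) [P.IsPrime] :
    ∃ (y : X) (hy : y ∈ V), pid V y hy = P := by
  let q : PrimeSpectrum Γ(X, V) := ⟨P, inferInstance⟩
  have hy : hV.fromSpec q ∈ V := by
    have : hV.fromSpec q ∈ (hV.fromSpec.opensRange : Set X) := ⟨q, rfl⟩
    rwa [hV.opensRange_fromSpec] at this
  refine ⟨hV.fromSpec q, hy, ?_⟩
  rw [pid_eq_primeIdealOf hV hy]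
  have := hV.fromSpec.isOpenEmbedding.injective (hV.fromSpec_primeIdealOf ⟨_, hy⟩)
  exact congrArg PrimeSpectrum.asIdeal this

theorem height_pid {V : X.Opens} (hV : IsAffineOpen V) {y : X} (hy : y ∈ V) :
    ((pid V y hy).height : WithBot ℕ∞) = (Order.coheight y : WithBot ℕ∞) := by
  letI := (X.presheaf.germ V y hy).hom.toAlgebra
  haveI := isLocalization_pid hV hy
  rw [← IsLocalization.AtPrime.ringKrullDim_eq_height (pid V y hy) (X.presheaf.stalk y),
    ringKrullDim_stalk_eq_coheight]

theorem height_pid_eq_one {V : X.Opens} (hV : IsAffineOpen V) {y : X} (hy : y ∈ V) (h1 : Order.coheight y = 1) :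
    (pid V y hy).height = 1 := by
  have := height_pid hV hy
  rw [h1] at this
  exact_mod_cast this

variable [IsIntegral X]

/-- The map from a stalk to the function field. -/
abbrev stkK (y : X) : X.presheaf.stalk y →+* X.functionField :=
  algebraMap (X.presheaf.stalk y) X.functionField

theorem stkK_germ {V : X.Opens} [Nonempty V] {y : X} (hy : y ∈ V) (c : Γ(X, V)) :
    stkK y ((X.presheaf.germ V y hy).hom c) = (X.germToFunctionField V).hom c :=
  Scheme.algebraMap_germ_eq_germToFunctionField X hy c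

theorem stkK_injective (y : X) : Function.Injective (stkK y) := by
  intro a b h
  exact IsFractionRing.injective (X.presheaf.stalk y) X.functionField h

theorem germ_ne_zero {V : X.Opens} [Nonempty V] {c : Γ(X, V)} (hc : c ≠ 0) :
    (X.germToFunctionField V).hom c ≠ 0 := fun h =>
  hc (X.germToFunctionField_injective V (h.trans (map_zero _).symm))

variable [IsLocallyNoetherian X]

/-- A maximal ideal generated by a nonzero element: a DVR and a point of codimension one. -/
theorem dvr_of_maximal (y : X) {π : X.presheaf.stalk y} (hπ : π ≠ 0)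
    (hm : IsLocalRing.maximalIdeal (X.presheaf.stalk y) = Ideal.span {π}) :
    IsDiscreteValuationRing (X.presheaf.stalk y) ∧ Irreducible π ∧ Order.coheight y = 1 := by
  have hnf : ¬ IsField (X.presheaf.stalk y) := fun hF => by
    rw [IsLocalRing.isField_iff_maximalIdeal_eq.1 hF, eq_comm, Ideal.span_singleton_eq_bot] at hm
    exact hπ hm
  haveI hd : IsDiscreteValuationRing (X.presheaf.stalk y) :=
    ((IsDiscreteValuationRing.TFAE _ hnf).out 4 0).1
      (show (IsLocalRing.maximalIdeal (X.presheaf.stalk y)).IsPrincipal from ⟨_, hm⟩)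
  refine ⟨hd, (IsDiscreteValuationRing.irreducible_iff_uniformizer _).2 hm, ?_⟩
  have h1 : ringKrullDim (X.presheaf.stalk y) = 1 := IsPrincipalIdealRing.ringKrullDim_eq_one _ hnf
  rw [ringKrullDim_stalk_eq_coheight] at h1
  exact_mod_cast h1

theorem ord_stkK_irreducible {y : X} (hy : Order.coheight y = 1) [IsDiscreteValuationRing (X.presheaf.stalk y)]
    {π : X.presheaf.stalk y} (hπ : Irreducible π) : Scheme.ord (stkK y π) y = 1 := by
  haveI : Ring.KrullDimLE 1 (X.presheaf.stalk y) := AlgebraicGeometry.krullDimLE_of_coheight_le hy.le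
  rw [Scheme.ord_eq_iff hy (fun h => hπ.ne_zero (stkK_injective y (h.trans (map_zero _).symm)))]
  exact Ring.ordFrac_irreducible hπ

theorem ord_one (y : X) : Scheme.ord (1 : X.functionField) y = 0 := by
  have h := Scheme.ord_mul (x := y) (one_ne_zero (α := X.functionField)) one_ne_zero
  rw [mul_one] at h
  omega

theorem ord_stkK_unit {y : X} {a : X.presheaf.stalk y} (ha : IsUnit a) : Scheme.ord (stkK y a) y = 0 := by
  by_cases hy : Order.coheight y = 1
  · haveI : Ring.KrullDimLE 1 (X.presheaf.stalk y) := AlgebraicGeometry.krullDimLE_of_coheight_le hy.le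
    rw [Scheme.ord_eq_iff hy (fun h => ha.ne_zero (stkK_injective y (h.trans (map_zero _).symm)))]
    exact Ring.ordFrac_of_isUnit ha
  · simp [hy]

theorem ord_stkK_nonneg {y : X} (hy : Order.coheight y = 1) [IsDiscreteValuationRing (X.presheaf.stalk y)]
    {π : X.presheaf.stalk y} (hπ : Irreducible π) {a : X.presheaf.stalk y} (ha : a ≠ 0) :
    ∃ n : ℕ, Scheme.ord (stkK y a) y = n ∧ Associated a (π ^ n) := by
  obtain ⟨n, v, hv⟩ := IsDiscreteValuationRing.eq_unit_mul_pow_irreducible ha hπ
  refine ⟨n, ?_, by rw [hv]; exact (associated_unit_mul_left _ _ v.isUnit)⟩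
  have hπ0 : stkK y π ≠ 0 := fun h => hπ.ne_zero (stkK_injective y (h.trans (map_zero _).symm))
  have hv0 : stkK y (v : X.presheaf.stalk y) ≠ 0 := fun h => v.isUnit.ne_zero (stkK_injective y (h.trans (map_zero _).symm))
  have hp : ∀ m : ℕ, Scheme.ord (stkK y π ^ m) y = m := by
    intro m
    induction m with
    | zero => simp [ord_one]
    | succ m ih =>
      rw [pow_succ, Scheme.ord_mul (pow_ne_zero _ hπ0) hπ0, ih, ord_stkK_irreducible hy hπ]
      push_cast
      ring
  rw [hv, map_mul, map_pow, Scheme.ord_mul hv0 (pow_ne_zero _ hπ0), ord_stkK_unit v.isUnit, hp, zero_add]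

theorem ord_inv (y : X) {f : X.functionField} (hf : f ≠ 0) : Scheme.ord f⁻¹ y = - Scheme.ord f y := by
  have h := Scheme.ord_mul (x := y) hf (inv_ne_zero hf)
  rw [mul_inv_cancel₀ hf, ord_one] at h
  omega

theorem ord_div (y : X) {f g : X.functionField} (hf : f ≠ 0) (hg : g ≠ 0) :
    Scheme.ord (f / g) y = Scheme.ord f y - Scheme.ord g y := by
  rw [div_eq_mul_inv, Scheme.ord_mul hf (inv_ne_zero hg), ord_inv y hg]
  ring

theorem ord_zpow (y : X) {f : X.functionField} (hf : f ≠ 0) (n : ℤ) :
    Scheme.ord (f ^ n) y = n * Scheme.ord f y := by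
  induction n using Int.induction_on with
  | zero => simp [ord_one]
  | succ m ih => rw [zpow_add_one₀ hf, Scheme.ord_mul (zpow_ne_zero _ hf) hf, ih]; ring
  | pred m ih =>
    rw [zpow_sub_one₀ hf, Scheme.ord_mul (zpow_ne_zero _ hf) (inv_ne_zero hf), ih, ord_inv y hf]
    ring

theorem ord_prod {ι : Type*} (y : X) (s : Finset ι) (f : ι → X.functionField) (hf : ∀ i ∈ s, f i ≠ 0) :
    Scheme.ord (∏ i ∈ s, f i) y = ∑ i ∈ s, Scheme.ord (f i) y := by
  classical
  induction s using Finset.induction_on with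
  | empty => simp [ord_one]
  | insert a s ha ih =>
    rw [Finset.prod_insert ha, Finset.sum_insert ha,
      Scheme.ord_mul (hf a (Finset.mem_insert_self a s))
        (Finset.prod_ne_zero_iff.2 fun i hi => hf i (Finset.mem_insert_of_mem hi)),
      ih fun i hi => hf i (Finset.mem_insert_of_mem hi)]

theorem ord_germ_eq_zero {V : X.Opens} [Nonempty V] {y : X} (hy : y ∈ V) {c : Γ(X, V)} (hc : c ∉ pid V y hy) :
    Scheme.ord ((X.germToFunctionField V).hom c) y = 0 := by
  rw [← stkK_germ hy c]
  exact ord_stkK_unit ((isUnit_germ_iff hy c).2 hc)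

/-- Every element of the prime of a point `y` is `b` up to a denominator prime to `y`: a uniformizer. -/
theorem dvr_of_pid {V : X.Opens} [Nonempty V] (hV : IsAffineOpen V) {y : X} (hy : y ∈ V) {b : Γ(X, V)}
    (hb0 : b ≠ 0) (hb : b ∈ pid V y hy)
    (h : ∀ c ∈ pid V y hy, (X.presheaf.germ V y hy).hom c ∈ Ideal.span {(X.presheaf.germ V y hy).hom b}) :
    IsDiscreteValuationRing (X.presheaf.stalk y) ∧ Irreducible ((X.presheaf.germ V y hy).hom b) ∧
      Order.coheight y = 1 := by
  letI := (X.presheaf.germ V y hy).hom.toAlgebra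
  haveI := isLocalization_pid hV hy
  refine dvr_of_maximal y (fun e => ?_) (le_antisymm ?_ ((Ideal.span_singleton_le_iff_mem _).2 hb))
  · refine germ_ne_zero hb0 ?_
    rw [← stkK_germ hy b, e, map_zero]
  · rw [← IsLocalization.AtPrime.map_eq_maximalIdeal (pid V y hy) (X.presheaf.stalk y), Ideal.map_le_iff_le_comap]
    exact fun c hc => h c hc

theorem coheight_genericPoint : Order.coheight (genericPoint X) = 0 := by
  rw [Order.coheight_eq_zero]
  intro z hz
  exact ((genericPoint_spec X).specializes trivial : genericPoint X ⤳ z)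

/-- A nonzero rational function has finitely many zeros and poles. -/
theorem finite_ord_ne_zero [CompactSpace X] (f : X.functionField) : {y : X | Scheme.ord f y ≠ 0}.Finite := by
  classical
  rcases eq_or_ne f 0 with rfl | hf
  · simp
  obtain ⟨s, hsU⟩ : ∃ s : Finset X.affineOpens, ∀ y : X, ∃ V ∈ s, y ∈ (V : X.affineOpens).1 := by
    obtain ⟨s, hs⟩ := isCompact_univ.elim_finite_subcover (fun V : X.affineOpens => (V.1 : Set X))
      (fun V => V.1.2) (fun y _ => by
        obtain ⟨_, ⟨V, hV, rfl⟩, hyV, -⟩ := X.isBasis_affineOpens.exists_subset_of_mem_open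
          (Set.mem_univ y) isOpen_univ
        exact Set.mem_iUnion.2 ⟨⟨V, hV⟩, hyV⟩)
    exact ⟨s, fun y => by simpa using hs (Set.mem_univ y)⟩
  refine Set.Finite.subset (Set.Finite.biUnion s.finite_toSet
    (t := fun V => {y : X | y ∈ V.1 ∧ Scheme.ord f y ≠ 0}) fun V _ => ?_) fun y hy => by
      obtain ⟨V, hVs, hyV⟩ := hsU y
      exact Set.mem_biUnion (Finset.mem_coe.2 hVs) ⟨hyV, hy⟩
  obtain ⟨V, hV⟩ := V
  rcases isEmpty_or_nonempty V with hE | hne
  · exact Set.finite_empty.subset fun y hy => (hE.false ⟨y, hy.1⟩).elim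
  haveI := hne
  haveI := functionField_isFractionRing_of_isAffineOpen X V hV
  haveI : IsNoetherianRing Γ(X, V) := IsLocallyNoetherian.component_noetherian ⟨V, hV⟩
  obtain ⟨a, b, hb, hab⟩ := IsFractionRing.div_surjective (A := Γ(X, V)) f
  have hb0 : b ≠ 0 := nonZeroDivisors.ne_zero hb
  have ha0 : a ≠ 0 := fun e => hf (by rw [← hab, e, map_zero, zero_div])
  have key : ∀ y : X, y ∈ V → Scheme.ord f y ≠ 0 → ∃ hy : y ∈ V, Order.coheight y = 1 ∧ a * b ∈ pid V y hy := by
    intro y hy hne'
    refine ⟨hy, by by_contra h; exact hne' (Scheme.ord_eq_zero_of_coheight_neq_one h f), ?_⟩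
    by_contra hab'
    have h1 : a ∉ pid V y hy := fun h => hab' (Ideal.mul_mem_right _ _ h)
    have h2 : b ∉ pid V y hy := fun h => hab' (Ideal.mul_mem_left _ _ h)
    apply hne'
    rw [← hab]
    change Scheme.ord ((X.germToFunctionField V).hom a / (X.germToFunctionField V).hom b) y = 0
    rw [ord_div y (germ_ne_zero ha0) (germ_ne_zero hb0), ord_germ_eq_zero hy h1, ord_germ_eq_zero hy h2, sub_zero]
  let S := {y : X | y ∈ V ∧ Scheme.ord f y ≠ 0}
  let F : S → (Ideal.span {a * b}).minimalPrimes := fun y => ⟨pid V y.1 y.2.1, by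
    obtain ⟨hy, h1, hm⟩ := key y.1 y.2.1 y.2.2
    refine Ideal.mem_minimalPrimes_of_height_eq ((Ideal.span_singleton_le_iff_mem _).2 hm) ?_
    rw [height_pid_eq_one hV y.2.1 h1, Ideal.height_span_singleton_eq_one_of_mem_nonZeroDivisors
      (mem_nonZeroDivisors_of_ne_zero (mul_ne_zero ha0 hb0))
      (fun hu => (inferInstance : (pid V y.1 y.2.1).IsPrime).ne_top (Ideal.eq_top_of_isUnit_mem _ hm hu))]⟩
  haveI : Finite ((Ideal.span {a * b}).minimalPrimes) :=
    (Ideal.finite_minimalPrimes_of_isNoetherianRing _ _).to_subtype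
  haveI := Finite.of_injective F fun y z h => Subtype.ext (pid_injective hV y.2.1 z.2.1 (congrArg Subtype.val h))
  exact Set.toFinite S

end Groth.Agent.WDivLib
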