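import Groth.Agent.WDivLib.Ord

/-!
# Divisors on a polynomial chart over a scheme

For `p : Y ⟶ X` and affine opens `U ⊆ X`, `V ⊆ p⁻¹U` with `Γ(Y, V)` a polynomial ring over `Γ(X, U)`, the
points of codimension one of `V` are horizontal (primes of the generic fibre, a factorial ring) or vertical
(the extensions of the primes of height one of `Γ(X, U)`).
-/

set_option autoImplicit false
set_option backward.isDefEq.respectTransparency false
set_option linter.style.haveILetI false

universe u

open CategoryTheory AlgebraicGeometry TopologicalSpace MvPolynomial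

noncomputable section

namespace Groth.Agent.WDivLib

variable {X Y : Scheme.{u}} (p : Y ⟶ X)

theorem germ_stalkMap_appLE (U : X.Opens) (V : Y.Opens) (h : V ≤ p ⁻¹ᵁ U) (y : Y) (hy : y ∈ V) (a : Γ(X, U)) :
    (p.stalkMap y).hom ((X.presheaf.germ U (p y) (h hy)).hom a) =
      (Y.presheaf.germ V y hy).hom ((p.appLE U V h).hom a) := by
  have h1 : X.presheaf.germ U (p y) (h hy) ≫ p.stalkMap y = p.appLE U V h ≫ Y.presheaf.germ V y hy := by
    rw [Scheme.Hom.germ_stalkMap, Scheme.Hom.appLE, Category.assoc, TopCat.Presheaf.germ_res]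
  exact congr($(congrArg CommRingCat.Hom.hom h1) a)

theorem pid_comap (U : X.Opens) (V : Y.Opens) (h : V ≤ p ⁻¹ᵁ U) (y : Y) (hy : y ∈ V) :
    pid U (p y) (h hy) = (pid V y hy).comap (p.appLE U V h).hom := by
  ext a
  simp only [pid, Ideal.mem_comap, IsLocalRing.mem_maximalIdeal]
  rw [← germ_stalkMap_appLE p U V h y hy a, mem_nonunits_iff, mem_nonunits_iff,
    isUnit_map_iff (p.stalkMap y).hom ((X.presheaf.germ U (p y) (h hy)).hom a)]

variable [IsIntegral X] [IsIntegral Y]

theorem pid_genericPoint (U : X.Opens) [Nonempty U] (hη : genericPoint X ∈ U) : pid U (genericPoint X) hη = ⊥ := by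
  refine eq_bot_iff.2 fun a ha => ?_
  rw [Ideal.mem_bot]
  by_contra h0
  exact ha (isUnit_iff_ne_zero.2 (germ_ne_zero (V := U) h0) : IsUnit ((X.germToFunctionField U).hom a))

theorem generic_mem (U : X.Opens) [h : Nonempty U] : genericPoint X ∈ U :=
  ((genericPoint_spec X).mem_open_set_iff U.isOpen).2 (by obtain ⟨⟨x, hx⟩⟩ := h; exact ⟨x, trivial, hx⟩)

/-- The map of function fields of a morphism respecting the generic points. -/
def pfield (hp : p (genericPoint Y) = genericPoint X) : X.functionField →+* Y.functionField :=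
  (X.presheaf.stalkSpecializes (show p (genericPoint Y) ⤳ genericPoint X from specializes_of_eq hp) ≫
    p.stalkMap (genericPoint Y)).hom

theorem pfield_stkK (hp : p (genericPoint Y) = genericPoint X) (y : Y) (a : X.presheaf.stalk (p y)) :
    pfield p hp (stkK (p y) a) = stkK y ((p.stalkMap y).hom a) := by
  have h1 : X.presheaf.stalkSpecializes ((genericPoint_spec X).specializes trivial : genericPoint X ⤳ p y) ≫
      (X.presheaf.stalkSpecializes (show p (genericPoint Y) ⤳ genericPoint X from specializes_of_eq hp) ≫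
        p.stalkMap (genericPoint Y)) =
      p.stalkMap y ≫ Y.presheaf.stalkSpecializes ((genericPoint_spec Y).specializes trivial : genericPoint Y ⤳ y) := by
    rw [← Category.assoc, TopCat.Presheaf.stalkSpecializes_comp,
      ← Scheme.Hom.stalkSpecializes_stalkMap p _ _ ((genericPoint_spec Y).specializes trivial : genericPoint Y ⤳ y)]
  exact congr($(congrArg CommRingCat.Hom.hom h1) a)

theorem pfield_germ (hp : p (genericPoint Y) = genericPoint X) (U : X.Opens) (V : Y.Opens) (h : V ≤ p ⁻¹ᵁ U)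
    [Nonempty U] [Nonempty V] (a : Γ(X, U)) :
    pfield p hp ((X.germToFunctionField U).hom a) = (Y.germToFunctionField V).hom ((p.appLE U V h).hom a) := by
  have hy := generic_mem V
  have h1 := stkK_germ (V := U) (show p (genericPoint Y) ∈ U from h hy) a
  rw [← h1, pfield_stkK, germ_stalkMap_appLE p U V h _ hy, stkK_germ hy]

theorem eq_of_le_height_one {B : Type*} [CommRing B] [IsDomain B] [IsNoetherianRing B] {Q P : Ideal B} [Q.IsPrime] [P.IsPrime]
    (hQ : Q ≠ ⊥) (hle : Q ≤ P) (hP : P.height = 1) : Q = P := by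
  by_contra hne
  have h := Ideal.height_strict_mono_of_isPrime (lt_of_le_of_ne hle hne)
  rw [hP, ENat.lt_one_iff_eq_zero] at h
  have h0 := Ideal.height_strict_mono_of_isPrime (bot_lt_iff_ne_bot.2 hQ)
  rw [h, Ideal.height_bot] at h0
  exact lt_irrefl _ h0

/-- A polynomial chart of `p`. -/
structure Chart (σ : Type u) where
  U : X.Opens
  V : Y.Opens
  hU : IsAffineOpen U
  hV : IsAffineOpen V
  hVU : V ≤ p ⁻¹ᵁ U
  neU : Nonempty U
  neV : Nonempty V
  e : MvPolynomial σ Γ(X, U) ≃+* Γ(Y, V)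
  he : ∀ a, e (MvPolynomial.C a) = (p.appLE U V hVU).hom a

attribute [instance] Chart.neU Chart.neV

variable {p} {σ : Type u} (c : Chart p σ)

namespace Chart

theorem appLE_injective : Function.Injective (p.appLE c.U c.V c.hVU).hom := fun a b h =>
  MvPolynomial.C_injective σ _ (c.e.injective (by rw [c.he, c.he, h]))

include c in
theorem map_genericPoint : p (genericPoint Y) = genericPoint X := by
  have hy := generic_mem c.V
  refine pid_injective c.hU (c.hVU hy) (generic_mem c.U) ?_
  rw [pid_comap p c.U c.V c.hVU _ hy, pid_genericPoint c.V hy, pid_genericPoint c.U]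
  exact (RingHom.injective_iff_ker_eq_bot _).1 c.appLE_injective

/-- The inclusion of the polynomials over the sections into the polynomials over the function field. -/
def ι : MvPolynomial σ Γ(X, c.U) →+* MvPolynomial σ X.functionField :=
  MvPolynomial.map (X.germToFunctionField c.U).hom

theorem ι_injective : Function.Injective c.ι := MvPolynomial.map_injective _ (X.germToFunctionField_injective c.U)

/-- The generic fibre maps to the function field. -/
def ψ : MvPolynomial σ X.functionField →+* Y.functionField :=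
  eval₂Hom (pfield p c.map_genericPoint) (fun i => (Y.germToFunctionField c.V).hom (c.e (MvPolynomial.X i)))

theorem ψ_ι (b : MvPolynomial σ Γ(X, c.U)) : c.ψ (c.ι b) = (Y.germToFunctionField c.V).hom (c.e b) := by
  have h : c.ψ.comp c.ι = (Y.germToFunctionField c.V).hom.comp (c.e : MvPolynomial σ Γ(X, c.U) →+* Γ(Y, c.V)) := by
    refine MvPolynomial.ringHom_ext (fun a => ?_) (fun i => ?_)
    · simp only [RingHom.comp_apply, ι, ψ, map_C, eval₂Hom_C, RingEquiv.coe_toRingHom]
      rw [c.he, pfield_germ p _ c.U c.V c.hVU]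
    · simp [ι, ψ]
  exact RingHom.congr_fun h b

theorem clear_denom (r : MvPolynomial σ X.functionField) :
    ∃ (a : Γ(X, c.U)) (b : MvPolynomial σ Γ(X, c.U)), a ≠ 0 ∧ c.ι (MvPolynomial.C a) * r = c.ι b := by
  haveI := functionField_isFractionRing_of_isAffineOpen X c.U c.hU
  induction r using MvPolynomial.induction_on' with
  | monomial m k =>
    obtain ⟨a, b, hb, hab⟩ := IsFractionRing.div_surjective (A := Γ(X, c.U)) k
    refine ⟨b, monomial m a, nonZeroDivisors.ne_zero hb, ?_⟩
    simp only [ι, map_C, C_mul_monomial, map_monomial]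
    congr 1
    rw [← hab]
    exact mul_div_cancel₀ _ (germ_ne_zero (nonZeroDivisors.ne_zero hb))
  | add r s hr hs =>
    obtain ⟨a1, b1, h1, e1⟩ := hr
    obtain ⟨a2, b2, h2, e2⟩ := hs
    exact ⟨a1 * a2, MvPolynomial.C a2 * b1 + MvPolynomial.C a1 * b2, mul_ne_zero h1 h2, by
      rw [map_add, map_mul c.ι (MvPolynomial.C a2), map_mul c.ι (MvPolynomial.C a1), ← e1, ← e2, map_mul MvPolynomial.C,
        map_mul]
      ring⟩

theorem isUnit_ι_C {a : Γ(X, c.U)} (ha : a ≠ 0) : IsUnit (c.ι (MvPolynomial.C a)) := by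
  rw [ι, map_C]
  exact (isUnit_iff_ne_zero.2 (germ_ne_zero ha)).map MvPolynomial.C

theorem ψ_injective : Function.Injective c.ψ := by
  refine (injective_iff_map_eq_zero _).2 fun r hr => ?_
  obtain ⟨a, b, ha, h⟩ := c.clear_denom r
  have h1 : c.ψ (c.ι b) = 0 := by rw [← h, map_mul, hr, mul_zero]
  rw [c.ψ_ι] at h1
  have hb : c.e b = 0 := Y.germToFunctionField_injective c.V (h1.trans (map_zero _).symm)
  rw [EmbeddingLike.map_eq_zero_iff] at hb
  rw [hb, map_zero] at h
  exact (c.isUnit_ι_C ha).mul_right_eq_zero.1 h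

theorem exists_div (g : Y.functionField) :
    ∃ r s : MvPolynomial σ X.functionField, s ≠ 0 ∧ g = c.ψ r / c.ψ s := by
  haveI := functionField_isFractionRing_of_isAffineOpen Y c.V c.hV
  obtain ⟨a, b, hb, hab⟩ := IsFractionRing.div_surjective (A := Γ(Y, c.V)) g
  refine ⟨c.ι (c.e.symm a), c.ι (c.e.symm b), fun h => nonZeroDivisors.ne_zero hb ?_, ?_⟩
  · exact (EmbeddingLike.map_eq_zero_iff (f := c.e.symm)).1 (c.ι_injective (h.trans (map_zero _).symm))
  · rw [c.ψ_ι, c.ψ_ι, RingEquiv.apply_symm_apply, RingEquiv.apply_symm_apply, ← hab]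
    rfl

/-- The prime of `Γ(Y, V)` cut out by a prime of the generic fibre. -/
def hprime (π : MvPolynomial σ X.functionField) : Ideal Γ(Y, c.V) :=
  (Ideal.span {π}).comap (c.ι.comp (c.e.symm : Γ(Y, c.V) →+* MvPolynomial σ Γ(X, c.U)))

theorem mem_hprime {π : MvPolynomial σ X.functionField} {b : MvPolynomial σ Γ(X, c.U)} :
    c.e b ∈ c.hprime π ↔ π ∣ c.ι b := by
  simp [hprime, Ideal.mem_span_singleton]

variable [IsLocallyNoetherian Y]

/-- The point of a prime of the generic fibre, with its uniformizer. -/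
theorem prime_point {π : MvPolynomial σ X.functionField} (hπ : Prime π) {y : Y} (hy : y ∈ c.V)
    (hP : pid c.V y hy = c.hprime π) :
    Order.coheight y = 1 ∧ p y = genericPoint X ∧ IsDiscreteValuationRing (Y.presheaf.stalk y) ∧
      Scheme.ord (c.ψ π) y = 1 ∧
      ∀ r, r ≠ 0 → (¬ π ∣ r → Scheme.ord (c.ψ r) y = 0) ∧ 0 ≤ Scheme.ord (c.ψ r) y := by
  have hbot : ∀ a : Γ(X, c.U), a ≠ 0 → c.e (MvPolynomial.C a) ∉ pid c.V y hy := fun a ha h => by
    rw [hP, c.mem_hprime] at h
    exact hπ.not_unit (isUnit_of_dvd_unit h (c.isUnit_ι_C ha))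
  have hη : p y = genericPoint X := by
    refine pid_injective c.hU (c.hVU hy) (generic_mem c.U) ?_
    rw [pid_comap p c.U c.V c.hVU y hy, pid_genericPoint c.U]
    refine eq_bot_iff.2 fun a ha => ?_
    rw [Ideal.mem_bot]
    by_contra h0
    rw [Ideal.mem_comap, ← c.he] at ha
    exact hbot a h0 ha
  obtain ⟨a1, b1, ha1, h1⟩ := c.clear_denom π
  have hb1 : b1 ≠ 0 := fun h => hπ.ne_zero (by
    rw [h, map_zero] at h1
    exact (c.isUnit_ι_C ha1).mul_right_eq_zero.1 h1)
  have hb1m : c.e b1 ∈ pid c.V y hy := by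
    rw [hP, c.mem_hprime, ← h1]
    exact dvd_mul_left _ _
  obtain ⟨hdvr, hirr, hco⟩ := dvr_of_pid c.hV hy (b := c.e b1)
    (fun h => hb1 ((EmbeddingLike.map_eq_zero_iff (f := c.e)).1 h)) hb1m (fun x hx => by
      obtain ⟨b, rfl⟩ := c.e.surjective x
      rw [hP, c.mem_hprime] at hx
      obtain ⟨r, hr⟩ := hx
      obtain ⟨a2, b2, ha2, h2⟩ := c.clear_denom r
      have key : MvPolynomial.C (a1 * a2) * b = b1 * b2 := c.ι_injective (by
        simp only [map_mul, ← h1, ← h2, hr]
        ring)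
      have key' := congrArg (fun t => (Y.presheaf.germ c.V y hy).hom (c.e t)) key
      simp only [map_mul c.e, map_mul (Y.presheaf.germ c.V y hy).hom] at key'
      obtain ⟨u, hu⟩ := (isUnit_germ_iff hy _).2 (hbot (a1 * a2) (mul_ne_zero ha1 ha2))
      rw [← hu] at key'
      rw [Ideal.mem_span_singleton]
      exact ⟨↑u⁻¹ * (Y.presheaf.germ c.V y hy).hom (c.e b2), by
        rw [← mul_assoc, mul_comm ((Y.presheaf.germ c.V y hy).hom (c.e b1)), mul_assoc, ← key', ← mul_assoc,
          Units.inv_mul, one_mul]⟩)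
  refine ⟨hco, hη, hdvr, ?_, fun r hr => ?_⟩
  · have hC : c.ψ (c.ι (MvPolynomial.C a1)) ≠ 0 := fun h =>
      (c.isUnit_ι_C ha1).ne_zero (c.ψ_injective (h.trans (map_zero _).symm))
    have h3 : c.ψ π = c.ψ (c.ι b1) / c.ψ (c.ι (MvPolynomial.C a1)) := by
      rw [← h1, map_mul, mul_div_cancel_left₀ _ hC]
    rw [h3, c.ψ_ι, c.ψ_ι, ord_div y (germ_ne_zero fun h => hb1 ((EmbeddingLike.map_eq_zero_iff (f := c.e)).1 h))
      (by rw [← c.ψ_ι]; exact hC), ord_germ_eq_zero hy (hbot a1 ha1), sub_zero, ← stkK_germ hy (c.e b1)]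
    exact ord_stkK_irreducible hco hirr
  · obtain ⟨a, b, ha, h⟩ := c.clear_denom r
    have hC : c.ψ (c.ι (MvPolynomial.C a)) ≠ 0 := fun e =>
      (c.isUnit_ι_C ha).ne_zero (c.ψ_injective (e.trans (map_zero _).symm))
    have hb : c.e b ≠ 0 := fun e => hr (by
      rw [EmbeddingLike.map_eq_zero_iff] at e
      rw [e, map_zero] at h
      exact (c.isUnit_ι_C ha).mul_right_eq_zero.1 h)
    have h3 : c.ψ r = c.ψ (c.ι b) / c.ψ (c.ι (MvPolynomial.C a)) := by
      rw [← h, map_mul, mul_div_cancel_left₀ _ hC]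
    rw [h3, c.ψ_ι, c.ψ_ι, ord_div y (germ_ne_zero hb) (by rw [← c.ψ_ι]; exact hC),
      ord_germ_eq_zero hy (hbot a ha), sub_zero]
    refine ⟨fun hd => ord_germ_eq_zero hy (by
      rw [hP, c.mem_hprime, ← h]
      exact fun hm => hd ((hπ.dvd_or_dvd hm).resolve_left
        fun hm' => hπ.not_unit (isUnit_of_dvd_unit hm' (c.isUnit_ι_C ha)))), ?_⟩
    rw [← stkK_germ hy (c.e b)]
    obtain ⟨n, hn, -⟩ := ord_stkK_nonneg hco hirr (a := (Y.presheaf.germ c.V y hy).hom (c.e b))
      (fun e => germ_ne_zero hb (by rw [← stkK_germ hy, e, map_zero]))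
    rw [hn]
    exact Int.natCast_nonneg n

theorem exists_prime_point {π : MvPolynomial σ X.functionField} (hπ : Prime π) :
    ∃ (y : Y) (hy : y ∈ c.V), pid c.V y hy = c.hprime π := by
  haveI : (Ideal.span {π}).IsPrime := (Ideal.span_singleton_prime hπ.ne_zero).2 hπ
  haveI : (c.hprime π).IsPrime := Ideal.IsPrime.comap _
  exact exists_pid_eq c.hV (c.hprime π)

/-- Every horizontal point of codimension one comes from a prime of the generic fibre. -/
theorem exists_prime_of_horizontal {y : Y} (hy : y ∈ c.V) (h1 : Order.coheight y = 1) (hη : p y = genericPoint X) :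
    ∃ π : MvPolynomial σ X.functionField, Prime π ∧ pid c.V y hy = c.hprime π := by
  haveI : IsNoetherianRing Γ(Y, c.V) := IsLocallyNoetherian.component_noetherian ⟨c.V, c.hV⟩
  set P := pid c.V y hy with hPdef
  have hP : P.height = 1 := height_pid_eq_one c.hV hy h1
  have hbot : ∀ a : Γ(X, c.U), a ≠ 0 → c.e (MvPolynomial.C a) ∉ P := fun a ha h => ha (by
    have h2 : a ∈ pid c.U (p y) (c.hVU hy) := by
      rw [pid_comap p c.U c.V c.hVU y hy, Ideal.mem_comap, ← c.he]
      exact h
    have h3 : pid c.U (p y) (c.hVU hy) = ⊥ := by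
      have hg := generic_mem c.U
      have : ∀ x (hx : x ∈ c.U), x = genericPoint X → pid c.U x hx = ⊥ := by
        rintro x hx rfl
        exact pid_genericPoint c.U hx
      exact this _ _ hη
    rwa [h3, Ideal.mem_bot] at h2)
  have key : ∀ r : MvPolynomial σ X.functionField, r ≠ 0 → ∀ (a : Γ(X, c.U)) (b : MvPolynomial σ Γ(X, c.U)),
      a ≠ 0 → c.ι (MvPolynomial.C a) * r = c.ι b → c.e b ∈ P →
        ∃ (π : MvPolynomial σ X.functionField) (a1 : Γ(X, c.U)) (b1 : MvPolynomial σ Γ(X, c.U)),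
          Prime π ∧ a1 ≠ 0 ∧ c.ι (MvPolynomial.C a1) * π = c.ι b1 ∧ c.e b1 ∈ P := by
    intro r
    induction r using UniqueFactorizationMonoid.induction_on_prime with
    | h₁ => intro h; exact absurd rfl h
    | h₂ x hx =>
      intro _ a b ha h hb
      exfalso
      obtain ⟨k, hk, rfl⟩ := MvPolynomial.isUnit_iff_eq_C_of_isReduced.1 hx
      haveI := functionField_isFractionRing_of_isAffineOpen X c.U c.hU
      obtain ⟨a2, a3, ha3, hk3⟩ := IsFractionRing.div_surjective (A := Γ(X, c.U)) k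
      have ha2 : a2 ≠ 0 := fun e => hk.ne_zero (by rw [← hk3, e, map_zero, zero_div])
      have e1 : MvPolynomial.C (a * a2) = b * MvPolynomial.C a3 := c.ι_injective (by
        rw [map_mul c.ι, ← h, map_mul MvPolynomial.C, map_mul c.ι]
        simp only [ι, map_C]
        rw [mul_assoc, ← map_mul MvPolynomial.C k, ← hk3]
        congr 2
        exact (div_mul_cancel₀ _ (germ_ne_zero (nonZeroDivisors.ne_zero ha3))).symm)
      refine hbot (a * a2) (mul_ne_zero ha ha2) ?_
      rw [e1, map_mul]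
      exact P.mul_mem_right _ hb
    | h₃ r π hr0 hπ ih =>
      intro _ a b ha h hb
      obtain ⟨a1, b1, ha1, h1⟩ := c.clear_denom π
      obtain ⟨a2, b2, ha2, h2⟩ := c.clear_denom r
      have e1 : MvPolynomial.C (a1 * a2) * b = MvPolynomial.C a * (b1 * b2) := c.ι_injective (by
        simp only [map_mul, ← h1, ← h2, ← h]
        ring)
      have hm : c.e (b1 * b2) ∈ P := by
        refine ((inferInstance : (pid c.V y hy).IsPrime).mem_or_mem (x := c.e (MvPolynomial.C a)) ?_).resolve_left
          (hbot a ha)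
        rw [← map_mul, ← e1, map_mul]
        exact P.mul_mem_left _ hb
      rw [map_mul] at hm
      rcases (inferInstance : (pid c.V y hy).IsPrime).mem_or_mem hm with hm | hm
      · exact ⟨π, a1, b1, hπ, ha1, h1, hm⟩
      · exact ih hr0 a2 b2 ha2 h2 hm
  obtain ⟨x, hx, hx0⟩ := Submodule.exists_mem_ne_zero_of_ne_bot (Ideal.ne_bot_of_height_eq_one hP)
  obtain ⟨b, rfl⟩ := c.e.surjective x
  obtain ⟨π, a1, b1, hπ, ha1, h1', hb1⟩ := key (c.ι b)
    (fun e => hx0 (by rw [c.ι_injective (e.trans (map_zero c.ι).symm), map_zero])) 1 b one_ne_zero (by simp) hx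
  refine ⟨π, hπ, ?_⟩
  have hle : c.hprime π ≤ P := fun x hx => by
    obtain ⟨b', rfl⟩ := c.e.surjective x
    rw [c.mem_hprime] at hx
    obtain ⟨r, hr⟩ := hx
    obtain ⟨a2, b2, ha2, h2⟩ := c.clear_denom r
    have e1 : MvPolynomial.C (a1 * a2) * b' = b1 * b2 := c.ι_injective (by
      simp only [map_mul, ← h1', ← h2, hr]
      ring)
    refine ((inferInstance : (pid c.V y hy).IsPrime).mem_or_mem (x := c.e (MvPolynomial.C (a1 * a2))) ?_).resolve_left
      (hbot _ (mul_ne_zero ha1 ha2))
    rw [← map_mul, e1, map_mul]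
    exact P.mul_mem_right _ hb1
  obtain ⟨z, hz, hzP⟩ := c.exists_prime_point hπ
  haveI : (c.hprime π).IsPrime := hzP ▸ inferInstance
  refine (eq_of_le_height_one (fun e => ?_) hle hP).symm
  obtain ⟨hz1, -⟩ := c.prime_point hπ hz hzP
  have h5 := height_pid_eq_one c.hV hz hz1
  rw [hzP, e, Ideal.height_bot] at h5
  exact zero_ne_one h5

/-- A rational function without horizontal zeros or poles comes from the base. -/
theorem horizontal_const {g : Y.functionField} (hg : g ≠ 0)
    (h : ∀ y ∈ c.V, Order.coheight y = 1 → p y = genericPoint X → Scheme.ord g y = 0) :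
    ∃ f : X.functionField, f ≠ 0 ∧ g = pfield p c.map_genericPoint f := by
  obtain ⟨r, s, hs, rfl⟩ := c.exists_div g
  have hr : r ≠ 0 := fun e => hg (by rw [e, map_zero, zero_div])
  obtain ⟨r', s', d, hrel, hdr, hds⟩ := UniqueFactorizationMonoid.exists_reduced_factors r hr s
  have hd0 : d ≠ 0 := fun e => hr (by rw [← hdr, e, zero_mul])
  have hr' : r' ≠ 0 := fun e => hr (by rw [← hdr, e, mul_zero])
  have hs' : s' ≠ 0 := fun e => hs (by rw [← hds, e, mul_zero])
  have hψ : ∀ {t : MvPolynomial σ X.functionField}, t ≠ 0 → c.ψ t ≠ 0 := fun ht e =>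
    ht (c.ψ_injective (e.trans (map_zero _).symm))
  rw [← hdr, ← hds, map_mul, map_mul, mul_div_mul_left _ _ (hψ hd0)] at h ⊢
  have hu : IsUnit r' ∧ IsUnit s' := by
    constructor <;> by_contra hnu
    · obtain ⟨π, hπi, t, ht⟩ := WfDvdMonoid.exists_irreducible_factor hnu hr'
      have hπ := UniqueFactorizationMonoid.irreducible_iff_prime.1 hπi
      obtain ⟨y, hy, hyP⟩ := c.exists_prime_point hπ
      obtain ⟨hy1, hyη, -, hord, hall⟩ := c.prime_point hπ hy hyP
      have ht0 : t ≠ 0 := fun e => hr' (by rw [ht, e, mul_zero])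
      have h2 := h y hy hy1 hyη
      rw [ord_div y (hψ hr') (hψ hs'), (hall s' hs').1 (fun hd => hπ.not_unit (hrel ⟨t, ht⟩ hd)), ht, map_mul,
        Scheme.ord_mul (hψ hπ.ne_zero) (hψ ht0), hord] at h2
      have := (hall t ht0).2
      omega
    · obtain ⟨π, hπi, t, ht⟩ := WfDvdMonoid.exists_irreducible_factor hnu hs'
      have hπ := UniqueFactorizationMonoid.irreducible_iff_prime.1 hπi
      obtain ⟨y, hy, hyP⟩ := c.exists_prime_point hπ
      obtain ⟨hy1, hyη, -, hord, hall⟩ := c.prime_point hπ hy hyP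
      have ht0 : t ≠ 0 := fun e => hs' (by rw [ht, e, mul_zero])
      have h2 := h y hy hy1 hyη
      rw [ord_div y (hψ hr') (hψ hs'), (hall r' hr').1 (fun hd => hπ.not_unit (hrel hd ⟨t, ht⟩)), ht, map_mul,
        Scheme.ord_mul (hψ hπ.ne_zero) (hψ ht0), hord] at h2
      have := (hall t ht0).2
      omega
  obtain ⟨k, hk, rfl⟩ := MvPolynomial.isUnit_iff_eq_C_of_isReduced.1 hu.1
  obtain ⟨l, hl, rfl⟩ := MvPolynomial.isUnit_iff_eq_C_of_isReduced.1 hu.2
  exact ⟨k / l, div_ne_zero hk.ne_zero hl.ne_zero, by simp [ψ]⟩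

/-- Prescribed horizontal orders are realized by a rational function. -/
theorem horizontal_exists (D : Y → ℤ) (hfin : {y | D y ≠ 0}.Finite) :
    ∃ g : Y.functionField, g ≠ 0 ∧
      ∀ y ∈ c.V, Order.coheight y = 1 → p y = genericPoint X → Scheme.ord g y = D y := by
  classical
  have hex : ∀ y : Y, ∃ π : MvPolynomial σ X.functionField, ∀ (hy : y ∈ c.V), Order.coheight y = 1 →
      p y = genericPoint X → Prime π ∧ pid c.V y hy = c.hprime π := by
    intro y
    by_cases h : ∃ _ : y ∈ c.V, Order.coheight y = 1 ∧ p y = genericPoint X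
    · obtain ⟨hy, h1, h2⟩ := h
      obtain ⟨π, hπ⟩ := c.exists_prime_of_horizontal hy h1 h2
      exact ⟨π, fun _ _ _ => hπ⟩
    · exact ⟨0, fun hy h1 h2 => absurd ⟨hy, h1, h2⟩ h⟩
  choose π hπ using hex
  let T := hfin.toFinset.filter fun y => y ∈ c.V ∧ Order.coheight y = 1 ∧ p y = genericPoint X
  have hT : ∀ y ∈ T, y ∈ c.V ∧ Order.coheight y = 1 ∧ p y = genericPoint X := fun y hy => (Finset.mem_filter.1 hy).2
  have hne : ∀ y ∈ T, c.ψ (π y) ^ D y ≠ 0 := fun y hy => by
    obtain ⟨h0, h1, h2⟩ := hT y hy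
    exact zpow_ne_zero _ fun e => (hπ y h0 h1 h2).1.ne_zero (c.ψ_injective (e.trans (map_zero _).symm))
  refine ⟨∏ y ∈ T, c.ψ (π y) ^ D y, Finset.prod_ne_zero_iff.2 hne, fun z hz hz1 hzη => ?_⟩
  obtain ⟨hzp, hzP⟩ := hπ z hz hz1 hzη
  obtain ⟨-, -, -, hord, hall⟩ := c.prime_point hzp hz hzP
  rw [ord_prod z T _ hne, Finset.sum_eq_single z]
  · rw [ord_zpow z (fun e => hzp.ne_zero (c.ψ_injective (e.trans (map_zero _).symm))), hord, mul_one]
  · intro y hy hyz
    obtain ⟨h0, h1, h2⟩ := hT y hy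
    obtain ⟨hyp, hyP⟩ := hπ y h0 h1 h2
    rw [ord_zpow z (fun e => hyp.ne_zero (c.ψ_injective (e.trans (map_zero _).symm))),
      (hall (π y) hyp.ne_zero).1 ?_, mul_zero]
    intro hd
    refine hyz (pid_injective c.hV h0 hz ?_)
    rw [hyP, hzP, hprime, hprime, Ideal.span_singleton_eq_span_singleton.2 (hzp.associated_of_dvd hyp hd)]
  · intro hzT
    have : D z = 0 := by
      by_contra h
      exact hzT (Finset.mem_filter.2 ⟨hfin.mem_toFinset.2 h, hz, hz1, hzη⟩)
    rw [this, zpow_zero, ord_one]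

/-- The point over a point of codimension one of the base, and its uniformizer. -/
theorem vertical_point [IsLocallyNoetherian X] {x : X} (hx : x ∈ c.U) (hx1 : Order.coheight x = 1)
    [hd : IsDiscreteValuationRing (X.presheaf.stalk x)] :
    ∃ (y : Y) (hy : y ∈ c.V) (hpy : p y = x), Order.coheight y = 1 ∧ IsDiscreteValuationRing (Y.presheaf.stalk y) ∧
      ∀ ϖ : X.presheaf.stalk (p y), Irreducible ϖ → Irreducible ((p.stalkMap y).hom ϖ) := by
  classical
  haveI : IsNoetherianRing Γ(Y, c.V) := IsLocallyNoetherian.component_noetherian ⟨c.V, c.hV⟩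
  let q : Ideal Γ(X, c.U) := pid c.U x hx
  let Q : Ideal Γ(Y, c.V) := (q.map MvPolynomial.C).comap (c.e.symm : Γ(Y, c.V) →+* MvPolynomial σ Γ(X, c.U))
  haveI : (q.map (MvPolynomial.C : Γ(X, c.U) →+* MvPolynomial σ Γ(X, c.U))).IsPrime := by
    rw [← Ideal.mk_ker (I := q), ← MvPolynomial.ker_map]
    exact RingHom.ker_isPrime _
  haveI : Q.IsPrime := Ideal.IsPrime.comap _
  obtain ⟨y, hy, hyP⟩ := exists_pid_eq c.hV Q
  have hpy : p y = x := by
    refine pid_injective c.hU (c.hVU hy) hx ?_
    rw [pid_comap p c.U c.V c.hVU y hy, hyP]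
    ext a
    rw [Ideal.mem_comap, ← c.he, Ideal.mem_comap, RingEquiv.coe_toRingHom, RingEquiv.symm_apply_apply,
      MvPolynomial.mem_map_C_iff]
    refine ⟨fun h => by simpa [MvPolynomial.coeff_C] using h 0, fun h m => ?_⟩
    rw [MvPolynomial.coeff_C]
    split_ifs
    · exact h
    · exact Ideal.zero_mem _
  subst hpy
  obtain ⟨ϖ, hϖ⟩ := IsDiscreteValuationRing.exists_irreducible (X.presheaf.stalk (p y))
  have hmax : ∀ ϖ : X.presheaf.stalk (p y), Irreducible ϖ → ((p.stalkMap y).hom ϖ) ≠ 0 ∧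
      IsLocalRing.maximalIdeal (Y.presheaf.stalk y) = Ideal.span {(p.stalkMap y).hom ϖ} := by
    intro ϖ hϖ
    have h0 : (p.stalkMap y).hom ϖ ≠ 0 := fun e => hϖ.ne_zero (stkK_injective (p y)
      ((pfield p c.map_genericPoint).injective (by rw [pfield_stkK, e, map_zero, map_zero, map_zero])))
    refine ⟨h0, le_antisymm ?_ ((Ideal.span_singleton_le_iff_mem _).2 ?_)⟩
    · letI := (Y.presheaf.germ c.V y hy).hom.toAlgebra
      haveI := isLocalization_pid c.hV hy
      rw [← IsLocalization.AtPrime.map_eq_maximalIdeal (pid c.V y hy) (Y.presheaf.stalk y), Ideal.map_le_iff_le_comap,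
        hyP]
      have h2 : q.map MvPolynomial.C ≤ ((Ideal.span {(p.stalkMap y).hom ϖ}).comap
          ((Y.presheaf.germ c.V y hy).hom.comp (c.e : MvPolynomial σ Γ(X, c.U) →+* Γ(Y, c.V)))) := by
        refine Ideal.map_le_iff_le_comap.2 fun a ha => ?_
        simp only [Ideal.mem_comap, RingHom.comp_apply, RingEquiv.coe_toRingHom]
        rw [c.he, ← germ_stalkMap_appLE p c.U c.V c.hVU y hy]
        have ha' : (X.presheaf.germ c.U (p y) hx).hom a ∈ Ideal.span {ϖ} := by
          rw [← (IsDiscreteValuationRing.irreducible_iff_uniformizer _).1 hϖ]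
          exact ha
        rw [Ideal.mem_span_singleton] at ha' ⊢
        exact map_dvd _ ha'
      intro z hz
      have h3 := h2 (show c.e.symm z ∈ q.map MvPolynomial.C from hz)
      simp only [Ideal.mem_comap, RingHom.comp_apply, RingEquiv.coe_toRingHom, RingEquiv.apply_symm_apply] at h3
      exact h3
    · rw [IsLocalRing.mem_maximalIdeal, mem_nonunits_iff, isUnit_map_iff]
      exact hϖ.not_isUnit
  obtain ⟨h0, hm⟩ := hmax ϖ hϖ
  obtain ⟨hd', -, hy1⟩ := dvr_of_maximal y h0 hm
  exact ⟨y, hy, rfl, hy1, hd', fun ϖ' h' => by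
    obtain ⟨h0', hm'⟩ := hmax ϖ' h'
    exact (dvr_of_maximal y h0' hm').2.1⟩

/-- A point of codimension one not over the generic point lies over a point of codimension one. -/
theorem coheight_map_of_vertical [IsLocallyNoetherian X] {y : Y} (hy : y ∈ c.V) (hy1 : Order.coheight y = 1)
    (hne : p y ≠ genericPoint X) : Order.coheight (p y) = 1 := by
  classical
  haveI : IsNoetherianRing Γ(Y, c.V) := IsLocallyNoetherian.component_noetherian ⟨c.V, c.hV⟩
  haveI : IsNoetherianRing Γ(X, c.U) := IsLocallyNoetherian.component_noetherian ⟨c.U, c.hU⟩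
  have hP := height_pid_eq_one c.hV hy hy1
  set q := pid c.U (p y) (c.hVU hy) with hq
  have hq0 : q ≠ ⊥ := fun e => hne (pid_injective c.hU (c.hVU hy) (generic_mem c.U)
    (e.trans (pid_genericPoint c.U _).symm))
  have hqc : ∀ r : Ideal Γ(X, c.U), r.IsPrime → r ≤ q → r ≠ ⊥ → r = q := by
    intro r hr hle hr0
    haveI : (r.map (MvPolynomial.C : Γ(X, c.U) →+* MvPolynomial σ Γ(X, c.U))).IsPrime := by
      rw [← Ideal.mk_ker (I := r), ← MvPolynomial.ker_map]
      exact RingHom.ker_isPrime _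
    let R' : Ideal Γ(Y, c.V) := (r.map MvPolynomial.C).comap (c.e.symm : Γ(Y, c.V) →+* MvPolynomial σ Γ(X, c.U))
    haveI : R'.IsPrime := Ideal.IsPrime.comap _
    have hR : R' = pid c.V y hy := by
      refine eq_of_le_height_one (fun e => hr0 ?_) (fun z hz => ?_) hP
      · refine eq_bot_iff.2 fun a ha => ?_
        have h1 : c.e (MvPolynomial.C a) ∈ R' := by
          rw [Ideal.mem_comap, RingEquiv.coe_toRingHom, RingEquiv.symm_apply_apply]
          exact Ideal.mem_map_of_mem _ ha
        rw [e, Ideal.mem_bot, c.he] at h1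
        exact (Ideal.mem_bot).2 (c.appLE_injective (h1.trans (map_zero _).symm))
      · have h2 : r.map MvPolynomial.C ≤ (pid c.V y hy).comap (c.e : MvPolynomial σ Γ(X, c.U) →+* Γ(Y, c.V)) :=
          Ideal.map_le_iff_le_comap.2 fun a ha => by
            simp only [Ideal.mem_comap, RingEquiv.coe_toRingHom]
            rw [c.he]
            have := hle ha
            rwa [hq, pid_comap p c.U c.V c.hVU y hy, Ideal.mem_comap] at this
        have h4 := h2 (show c.e.symm z ∈ r.map MvPolynomial.C from hz)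
        simp only [Ideal.mem_comap, RingEquiv.coe_toRingHom, RingEquiv.apply_symm_apply] at h4
        exact h4
    refine le_antisymm hle fun a ha => ?_
    have h3 : c.e (MvPolynomial.C a) ∈ R' := by
      rw [hR, c.he]
      rwa [hq, pid_comap p c.U c.V c.hVU y hy, Ideal.mem_comap] at ha
    rw [Ideal.mem_comap, RingEquiv.coe_toRingHom, RingEquiv.symm_apply_apply, MvPolynomial.mem_map_C_iff] at h3
    simpa [MvPolynomial.coeff_C] using h3 0
  have h1 : q.height = 1 := by
    refine le_antisymm ?_ ?_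
    · rw [← Nat.cast_one, Ideal.height_le_iff]
      intro r hr hlt
      have : r = ⊥ := by
        by_contra h
        exact hlt.ne (hqc r hr hlt.le h)
      rw [this, Ideal.height_bot]
      simp
    · have := Ideal.height_strict_mono_of_isPrime (bot_lt_iff_ne_bot.2 hq0)
      rw [Ideal.height_bot] at this
      exact Order.one_le_iff_ne_zero.2 this.ne'
  have := height_pid c.hU (c.hVU hy)
  rw [← hq, h1] at this
  exact_mod_cast this.symm

/-- Only one point of codimension one of the chart lies over a point of codimension one. -/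
theorem vertical_unique {y z : Y} (hy : y ∈ c.V) (hz : z ∈ c.V) (hy1 : Order.coheight y = 1)
    (hz1 : Order.coheight z = 1) (hne : p y ≠ genericPoint X) (h : p z = p y) : z = y := by
  haveI : IsNoetherianRing Γ(Y, c.V) := IsLocallyNoetherian.component_noetherian ⟨c.V, c.hV⟩
  let q := pid c.U (p y) (c.hVU hy)
  haveI : (q.map (MvPolynomial.C : Γ(X, c.U) →+* MvPolynomial σ Γ(X, c.U))).IsPrime := by
    rw [← Ideal.mk_ker (I := q), ← MvPolynomial.ker_map]
    exact RingHom.ker_isPrime _
  let Q : Ideal Γ(Y, c.V) := (q.map MvPolynomial.C).comap (c.e.symm : Γ(Y, c.V) →+* MvPolynomial σ Γ(X, c.U))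
  haveI : Q.IsPrime := Ideal.IsPrime.comap _
  have hpid : ∀ x (hx : x ∈ c.U), x = p y → pid c.U x hx = q := by
    rintro x hx rfl
    rfl
  have key : ∀ w (hw : w ∈ c.V), Order.coheight w = 1 → p w = p y → pid c.V w hw = Q := by
    intro w hw hw1 hwp
    refine (eq_of_le_height_one (fun e => hne ?_) ?_ (height_pid_eq_one c.hV hw hw1)).symm
    · refine pid_injective c.hU (c.hVU hy) (generic_mem c.U) ?_
      rw [pid_genericPoint c.U]
      refine eq_bot_iff.2 fun a ha => ?_
      have h1 : c.e (MvPolynomial.C a) ∈ Q := by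
        rw [Ideal.mem_comap, RingEquiv.coe_toRingHom, RingEquiv.symm_apply_apply]
        exact Ideal.mem_map_of_mem _ ha
      rw [e, Ideal.mem_bot, c.he] at h1
      exact (Ideal.mem_bot).2 (c.appLE_injective (h1.trans (map_zero _).symm))
    · intro x hx
      have h2 : q.map MvPolynomial.C ≤ (pid c.V w hw).comap (c.e : MvPolynomial σ Γ(X, c.U) →+* Γ(Y, c.V)) :=
        Ideal.map_le_iff_le_comap.2 fun a ha => by
          simp only [Ideal.mem_comap, RingEquiv.coe_toRingHom]
          rw [c.he]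
          rwa [← hpid _ (c.hVU hw) hwp, pid_comap p c.U c.V c.hVU w hw, Ideal.mem_comap] at ha
      have h4 := h2 (show c.e.symm x ∈ q.map MvPolynomial.C from hx)
      simp only [Ideal.mem_comap, RingEquiv.coe_toRingHom, RingEquiv.apply_symm_apply] at h4
      exact h4
  exact pid_injective c.hV hz hy ((key z hz hz1 h).trans (key y hy hy1 rfl).symm)

theorem ord_pfield_horizontal {y : Y} (hη : p y = genericPoint X) {f : X.functionField} (hf : f ≠ 0) :
    Scheme.ord (pfield p c.map_genericPoint f) y = 0 := by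
  have hs : (p y) ⤳ genericPoint X := specializes_of_eq hη
  have h1 : X.presheaf.stalkSpecializes hs ≫
      X.presheaf.stalkSpecializes ((genericPoint_spec X).specializes trivial : genericPoint X ⤳ p y) = 𝟙 _ := by
    rw [TopCat.Presheaf.stalkSpecializes_comp]
    exact TopCat.Presheaf.stalkSpecializes_refl _ _
  have hf' : stkK (p y) ((X.presheaf.stalkSpecializes hs).hom f) = f := congr($(congrArg CommRingCat.Hom.hom h1) f)
  rw [← hf', pfield_stkK]
  exact ord_stkK_unit ((((show IsUnit f from isUnit_iff_ne_zero.2 hf).map (X.presheaf.stalkSpecializes hs).hom)).map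
    (p.stalkMap y).hom)

theorem ord_pfield_vertical [IsLocallyNoetherian X] {y : Y} (hy : y ∈ c.V) (hy1 : Order.coheight y = 1)
    (hne : p y ≠ genericPoint X) [hd : IsDiscreteValuationRing (X.presheaf.stalk (p y))]
    {f : X.functionField} (hf : f ≠ 0) :
    Scheme.ord (pfield p c.map_genericPoint f) y = Scheme.ord f (p y) := by
  have hx1 := c.coheight_map_of_vertical hy hy1 hne
  obtain ⟨w, hw, hwp, hw1, hwd, hirr⟩ := c.vertical_point (c.hVU hy) hx1
  obtain rfl := c.vertical_unique hy hw hy1 hw1 hne hwp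
  obtain ⟨ϖ, hϖ⟩ := IsDiscreteValuationRing.exists_irreducible (X.presheaf.stalk (p w))
  have hι : ∀ a : X.presheaf.stalk (p w), a ≠ 0 →
      Scheme.ord (pfield p c.map_genericPoint (stkK (p w) a)) w = Scheme.ord (stkK (p w) a) (p w) := by
    intro a ha
    obtain ⟨n, hn, hna⟩ := ord_stkK_nonneg hx1 hϖ ha
    rw [pfield_stkK, hn]
    obtain ⟨m, hm, hma⟩ := ord_stkK_nonneg hw1 (hirr ϖ hϖ) (a := (p.stalkMap w).hom a) (fun e =>
      ha (stkK_injective (p w) ((pfield p c.map_genericPoint).injective (by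
        rw [pfield_stkK, e, map_zero, map_zero, map_zero]))))
    rw [hm]
    have h2 : Associated ((p.stalkMap w).hom ϖ ^ n) ((p.stalkMap w).hom ϖ ^ m) := by
      have := (hna.map (p.stalkMap w).hom).symm.trans hma
      rwa [map_pow] at this
    have hne' := (hirr ϖ hϖ).ne_zero
    have := (hirr ϖ hϖ).not_isUnit
    exact_mod_cast le_antisymm ((pow_dvd_pow_iff hne' this).1 h2.symm.dvd) ((pow_dvd_pow_iff hne' this).1 h2.dvd)
  obtain ⟨a, b, hb, rfl⟩ := IsFractionRing.div_surjective (A := X.presheaf.stalk (p w)) f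
  have hb0 := nonZeroDivisors.ne_zero hb
  have ha0 : a ≠ 0 := fun e => hf (by rw [e, map_zero, zero_div])
  have h0 : ∀ {r : X.presheaf.stalk (p w)}, r ≠ 0 → stkK (p w) r ≠ 0 := fun hr e =>
    hr (stkK_injective (p w) (e.trans (map_zero _).symm))
  have h0' : ∀ {r : X.presheaf.stalk (p w)}, r ≠ 0 → pfield p c.map_genericPoint (stkK (p w) r) ≠ 0 := fun hr e =>
    h0 hr ((pfield p c.map_genericPoint).injective (e.trans (map_zero _).symm))
  rw [map_div₀, ord_div w (h0' ha0) (h0' hb0), ord_div (p w) (h0 ha0) (h0 hb0), hι a ha0, hι b hb0]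

end Chart

end Groth.Agent.WDivLib
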